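import Cfsg.Agent.H3.Monster5.Fixed

/-!
The monomial automorphisms of the Leech lattice commuting with the element of order five.
-/

set_option autoImplicit false
set_option maxRecDepth 20000

namespace H3.Monster5

open Cfsg H56M Finset
open H95 hiding cls

/-- a permutation with given images of the fixed points and of the four representatives -/
def qF (a b c d z₁ z₂ z₃ z₄ n : ℕ) : ℕ :=
  (if n = 23 then a else if n = 0 then b else if n = 3 then c else if n = 15 then d
  else
    itF (match (cycPos n).1 with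
      | 1 => z₁
      | 2 => z₂
      | 3 => z₃
      | _ => z₄) (cycPos n).2) % 32

/-- packed -/
def qN (a b c d z₁ z₂ z₃ z₄ : ℕ) : ℕ := H90.packAux (fun n => qF a b c d z₁ z₂ z₃ z₄ n) 24

/-- the four fixed points -/
def fixL : List ℕ := [23, 0, 3, 15]

/-- a filter from one octad -/
def qOK (m a b c d z : ℕ) : Bool := H90.isCode (H90.permMask (qN a b c d z z z z) m)

/-- the search -/
def centSearch5 : Bool :=
  fixL.all fun a => fixL.all fun b => fixL.all fun c => fixL.all fun d =>
    (a == b || a == c || a == d || b == c || b == d || c == d) ||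
    (List.range 24).all fun z₁ => !qOK 8683614 a b c d z₁ ||
      (List.range 24).all fun z₂ => !qOK 11535529 a b c d z₂ ||
        (List.range 24).all fun z₃ => !qOK 8499969 a b c d z₃ ||
          (List.range 24).all fun z₄ => !qOK 4900873 a b c d z₄ ||
            (let p := qN a b c d z₁ z₂ z₃ z₄
             !H90.preservesCode p || permT.contains p)

theorem centSearch5_ok : centSearch5 = true := by decide +kernel

theorem exists_perm_code {τ : M24} (hcomm : ∀ p, τ.1 (cubeTwist p) = cubeTwist (τ.1 p)) :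
    ∃ p ∈ permT, H90.Repr τ.1 p := by
  have hpow : ∀ k p, τ.1 ((twStab ^ k).1.1 p) = (twStab ^ k).1.1 (τ.1 p) := by
    intro k
    induction k with
    | zero => intro p; rfl
    | succ k ih =>
      intro p
      rw [pow_succ]
      show τ.1 ((twStab ^ k).1.1 (cubeTwist p)) = (twStab ^ k).1.1 (cubeTwist (τ.1 p))
      rw [ih, hcomm]
  set f : ℕ → ℕ := fun n => if h : n < 24 then (H90.idx (τ.1 (H90.pt ⟨n, h⟩))).val else 0 with hf
  have hflt : ∀ n, f n < 24 := fun n => by
    simp only [hf]; split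
    · exact (H90.idx _).isLt
    · norm_num
  have hit : ∀ k z, (hz : z < 24) → ∀ n : Fin 24, itF z k = n.val → f n.val = itF (f z) k := by
    intro k z hz n hn
    have e : H90.pt n = (twStab ^ k).1.1 (H90.pt ⟨z, hz⟩) := by
      refine H90.idx_injective (Fin.ext ?_)
      rw [twist_pow_idx, H90.idx_pt, H90.idx_pt, hn]
    simp only [hf, dif_pos n.isLt, dif_pos hz, Fin.eta]
    rw [e, hpow, twist_pow_idx]
  have hfix : ∀ n, n ∈ fixL → f n ∈ fixL := by
    intro n hn
    have hfx : n < 24 ∧ itF n 1 = n := (show ∀ n ∈ fixL, n < 24 ∧ itF n 1 = n by decide +kernel) n hn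
    have h := hit 1 n hfx.1 ⟨n, hfx.1⟩ hfx.2
    exact (show ∀ m : Fin 24, m.val = itF m.val 1 → m.val ∈ fixL by decide +kernel) ⟨f n, hflt n⟩ h
  have hinj : ∀ a b, a < 24 → b < 24 → f a = f b → a = b := fun a b ha hb he => by
    simp only [hf, dif_pos ha, dif_pos hb] at he
    exact congrArg Fin.val (H90.pt_injective (τ.1.injective (H90.idx_injective (Fin.ext he))))
  set P := qN (f 23) (f 0) (f 3) (f 15) (f 1) (f 5) (f 8) (f 11) with hP
  have hlt32 : ∀ a b c d z₁ z₂ z₃ z₄ n, qF a b c d z₁ z₂ z₃ z₄ n < 32 :=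
    fun a b c d z₁ z₂ z₃ z₄ n => Nat.mod_lt _ (by norm_num)
  have hF : ∀ n : Fin 24, qF (f 23) (f 0) (f 3) (f 15) (f 1) (f 5) (f 8) (f 11) n.val = f n.val := by
    intro n
    have hlt : ∀ z k, (hz : z < 24) → itF z k = n.val → itF (f z) k % 32 = f n.val := by
      intro z k hz hn
      rw [← hit k z hz n hn]
      have := hflt n.val
      omega
    rcases twist_cycles n with h | h | h | h | ⟨a, b⟩ | ⟨a, b⟩ | ⟨a, b⟩ | ⟨a, b⟩
    · rw [h]; show f 23 % 32 = f 23; have := hflt 23; omega
    · rw [h]; show f 0 % 32 = f 0; have := hflt 0; omega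
    · rw [h]; show f 3 % 32 = f 3; have := hflt 3; omega
    · rw [h]; show f 15 % 32 = f 15; have := hflt 15; omega
    all_goals
      have hne' : n.val ≠ 23 ∧ n.val ≠ 0 ∧ n.val ≠ 3 ∧ n.val ≠ 15 := by
        refine ⟨?_, ?_, ?_, ?_⟩ <;> intro h <;> rw [h] at a <;> exact absurd a (by decide +kernel)
      simp only [qF, if_neg hne'.1, if_neg hne'.2.1, if_neg hne'.2.2.1, if_neg hne'.2.2.2, a]
    · exact hlt 1 _ (by norm_num) b
    · exact hlt 5 _ (by norm_num) b
    · exact hlt 8 _ (by norm_num) b
    · exact hlt 11 _ (by norm_num) b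
  have hr : H90.Repr τ.1 P := fun i => by
    rw [hP, qN, H90.img_packAux _ (fun j => hlt32 _ _ _ _ _ _ _ _ _), if_pos i.isLt, hF]
    simp only [hf, dif_pos i.isLt, Fin.eta]
  refine ⟨P, ?_, hr⟩
  have hfilter : ∀ m c z, m ∈ [8683614, 11535529, 8499969, 4900873] →
      (∀ n < 24, Nat.testBit m n = true → (cycPos n).1 = c ∨ n = 0 ∨ n = 23 ∨ n = 3 ∨ n = 15) →
      (∀ n, (cycPos n).1 = c → qF (f 23) (f 0) (f 3) (f 15) z z z z n
        = qF (f 23) (f 0) (f 3) (f 15) (f 1) (f 5) (f 8) (f 11) n) →
      qOK m (f 23) (f 0) (f 3) (f 15) z = true := by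
    intro m c z hm hb hcand
    have e : H90.permMask (qN (f 23) (f 0) (f 3) (f 15) z z z z) m = H90.permMask P m := by
      refine permMaskAux_congr 24 fun n hn hbit => ?_
      rw [hP, qN, qN, H90.img_packAux _ (fun j => hlt32 _ _ _ _ _ _ _ _ _),
        H90.img_packAux _ (fun j => hlt32 _ _ _ _ _ _ _ _ _), if_pos hn, if_pos hn]
      rcases hb n hn hbit with h | h | h | h | h
      · exact hcand n h
      all_goals subst h; rfl
    rw [qOK, e, ← H90.wordOf_mem_iff (H90.permMask_lt hr m)]
    have hmC : H90.wordOf m ∈ golayCode :=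
      (H90.wordOf_mem_iff (octad_mem m hm).2).mpr (octad_mem m hm).1
    have := H90.mem_M24_iff_words.mp τ.2 _ hmC
    convert this using 1
    apply H90.support₂_injective
    rw [H90.support₂_comp_symm, H90.support₂_wordOf, H90.support₂_wordOf, H90.setOf'_permMask hr]
  have hs := centSearch5_ok
  simp only [centSearch5, List.all_eq_true, List.mem_range, Bool.or_eq_true, Bool.not_eq_true',
    beq_iff_eq, List.contains_iff_mem] at hs
  have m23 : (23 : ℕ) ∈ fixL := by decide
  have m0 : (0 : ℕ) ∈ fixL := by decide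
  have m3 : (3 : ℕ) ∈ fixL := by decide
  have m15 : (15 : ℕ) ∈ fixL := by decide
  have h0 := (hs _ (hfix _ m23) _ (hfix _ m0) _ (hfix _ m3) _ (hfix _ m15)).resolve_left (by
    rintro (((((e | e) | e) | e) | e) | e) <;>
      exact absurd (hinj _ _ (by norm_num) (by norm_num) e) (by norm_num))
  have hcz : ∀ c z, ((c = 1 ∧ z = f 1) ∨ (c = 2 ∧ z = f 5) ∨ (c = 3 ∧ z = f 8) ∨ (c = 4 ∧ z = f 11)) →
      ∀ n, (cycPos n).1 = c → qF (f 23) (f 0) (f 3) (f 15) z z z z n
        = qF (f 23) (f 0) (f 3) (f 15) (f 1) (f 5) (f 8) (f 11) n := by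
    rintro c z (⟨rfl, rfl⟩ | ⟨rfl, rfl⟩ | ⟨rfl, rfl⟩ | ⟨rfl, rfl⟩) n hn <;>
      simp only [qF, hn]
  have hm := maskBits_ok
  simp only [Bool.and_eq_true] at hm
  have k1 := hfilter 8683614 1 (f 1) (by simp) (maskBits_spec hm.1.1.1) (hcz 1 _ (by simp))
  have k2 := hfilter 11535529 2 (f 5) (by simp) (maskBits_spec hm.1.1.2) (hcz 2 _ (by simp))
  have k3 := hfilter 8499969 3 (f 8) (by simp) (maskBits_spec hm.1.2) (hcz 3 _ (by simp))
  have k4 := hfilter 4900873 4 (f 11) (by simp) (maskBits_spec hm.2) (hcz 4 _ (by simp))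
  have h1 := (h0 _ (hflt 1)).resolve_left (by rw [k1]; simp)
  have h2 := (h1 _ (hflt 5)).resolve_left (by rw [k2]; simp)
  have h3 := (h2 _ (hflt 8)).resolve_left (by rw [k3]; simp)
  have h4 := (h3 _ (hflt 11)).resolve_left (by rw [k4]; simp)
  exact h4.resolve_left (by
    rw [← hP, (H90.mem_M24_iff_preservesCode hr).mp τ.2]; simp)

theorem perms_ok : ∀ p ∈ permT, Co2Cent.permOK p = true ∧ Co2Cent.srcOK p = true := by
  decide +kernel

/-- a monomial automorphism commuting with the element is a fixed sign change times a listed permutation -/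
theorem mono_cases {a : Co0} (hfr : H56M.cls (a • eight none) = H56M.cls (eight none))
    (hg : a * g5 = g5 * a) :
    ∃ p ∈ permT, ∃ n ∈ signT, a = Co2Cent.signW n * H95.permHom (Co2Cent.permN p) := by
  obtain ⟨σ, c, hσ, hc, rfl⟩ := mono_of_fix_frame hfr
  have hgi : ∀ i, g5 • eight i = eight (cubeTwist i) := fun i => permHom_eight _ i
  have hcomm : ∀ i, σ (cubeTwist i) = cubeTwist (σ i) := by
    intro i
    have h1 : (mono σ c hσ hc * g5) • eight i = (g5 * mono σ c hσ hc) • eight i := by rw [hg]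
    rw [mul_smul, hgi, mul_smul] at h1
    refine eight_pm_inj (mono_eight hσ hc (cubeTwist i)) ?_
    rw [h1]
    rcases mono_eight hσ hc i with e | e <;> rw [e]
    · exact Or.inl (hgi _)
    · right
      have := map_neg (AddMonoidHom.mk' (fun u : leechLattice => g5 • u) (co0_add g5)) (eight (σ i))
      simp only [AddMonoidHom.mk'_apply] at this
      rw [this, hgi]
  obtain ⟨p, hp, hr⟩ := exists_perm_code (τ := ⟨σ, hσ⟩) hcomm
  have hσp : Co2Cent.permN p = ⟨σ, hσ⟩ :=
    Subtype.ext ((Co2Cent.permN_repr (perms_ok p hp).1).unique hr)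
  have hsign : ∀ i, (cubeTwist i ∈ c ↔ i ∈ c) := by
    intro i
    set j := σ.symm i with hj
    have hij : σ j = i := σ.apply_symm_apply i
    have h1 : (mono σ c hσ hc * g5) • eight j = (g5 * mono σ c hσ hc) • eight j := by rw [hg]
    rw [mul_smul, hgi, mul_smul] at h1
    have h2 := congrArg (fun u : leechLattice => (u : GolayPt → ℤ) (cubeTwist i)) h1
    simp only [mono_smul] at h2
    rw [show ((eight (cubeTwist j) : leechLattice) : GolayPt → ℤ) = Pi.single (cubeTwist j) 8 from rfl,
      signedPerm_single, hcomm, hij, Pi.single_eq_same] at h2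
    rw [show (g5 : Co0) = H95.permHom twStab.1 from rfl, permHom_apply] at h2
    simp only [mono_smul] at h2
    rw [show (twStab.1 : M24).1.symm (cubeTwist i) = i from (twStab.1 : M24).1.symm_apply_apply i,
      show ((eight j : leechLattice) : GolayPt → ℤ) = Pi.single j 8 from rfl, signedPerm_single, hij,
      Pi.single_eq_same] at h2
    by_cases h3 : cubeTwist i ∈ c <;> by_cases h4 : i ∈ c <;> simp_all
  obtain ⟨n, hn, hw⟩ := fixed_word (a := ind c) (mem_supports_iff.mp hc) fun i => by
    simp only [ind, hsign]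
  refine ⟨p, hp, n, hn, co0_ext fun v => Subtype.ext (funext fun i => ?_)⟩
  rw [mul_smul, Co2Cent.signW_coord, hσp, permHom_apply, mono_smul]
  have hi : i ∈ c ↔ (H90.encode n).testBit (H90.idx i).val = true := by
    have := congrFun hw i
    simp only [ind, H90.wordOf] at this
    constructor
    · intro h
      rw [if_pos h] at this
      by_contra hb
      rw [if_neg hb] at this
      exact absurd this (by decide)
    · intro hb
      by_contra h
      rw [if_pos hb, if_neg h] at this
      exact absurd this (by decide)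
  simp only [signedPerm, hi]

end H3.Monster5
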