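import Cfsg.Agent.H3.Monster5.Data
import Cfsg.Agent.H12.Monster.Standard
import Cfsg.Agent.H95.Co1Words
import Cfsg.Agent.H95.Co2Cent.Rep

/-!
The classes of the Leech lattice modulo two fixed by a permutation of cycle shape `1⁴ 5⁴`.
-/

set_option autoImplicit false
set_option maxRecDepth 20000

namespace H3.Monster5

open Cfsg H56M Finset
open H95 hiding cls

/-- coordinates on the fixed classes -/
abbrev V : Type := Fin 8 → ZMod 2

/-- the element of order five -/
noncomputable def g5 : Co0 := H95.permHom twStab.1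

theorem zmod2_add_self : ∀ a : ZMod 2, a + a = 0 := by decide

theorem ldot_vecL (u w : leechLattice) :
    ldot u w = dotL (vecL (u : GolayPt → ℤ)) (vecL (w : GolayPt → ℤ)) := by
  show dotInt _ _ = _
  rw [dotInt, vecL, vecL, dotL_ofFn,
    ← Equiv.sum_comp H90.ptEquiv (fun p => (u : GolayPt → ℤ) p * (w : GolayPt → ℤ) p)]
  refine sum_congr rfl fun i _ => ?_
  rw [List.getD_eq_getElem _ _ (by simp), List.getElem_ofFn]
  rfl

theorem bf_add_right (x u w : leechLattice) : bf x (u + w) = bf x u + bf x w := by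
  obtain ⟨a, ha⟩ := leechLike.dvd8 x u
  obtain ⟨b, hb⟩ := leechLike.dvd8 x w
  simp only [bf, leechLike.add_right, ha, hb, ← mul_add,
    Int.mul_ediv_cancel_left _ (show (8 : ℤ) ≠ 0 by norm_num)]
  push_cast; rfl

theorem bf_add_left (x u w : leechLattice) : bf (x + u) w = bf x w + bf u w := by
  rw [bf_comm, bf_add_right, bf_comm w x, bf_comm w u]

/-- the form in the second place -/
def bfR (x : leechLattice) : leechLattice →+ ZMod 2 := AddMonoidHom.mk' (bf x) (bf_add_right x)

theorem bf_zero_right (x : leechLattice) : bf x 0 = 0 := map_zero (bfR x)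

theorem bf_congr {u w : leechLattice} (h : cls u = cls w) (x : leechLattice) : bf x u = bf x w := by
  obtain ⟨z, hz⟩ := mem_twice.mp (cls_eq.mp h)
  rw [show u = w + (z + z) by rw [← two_nsmul, ← hz]; abel, bf_add_right, bf_add_right,
    zmod2_add_self, add_zero]

theorem bf_congr_left {u w : leechLattice} (h : cls u = cls w) (x : leechLattice) : bf u x = bf w x := by
  rw [bf_comm, bf_congr h, bf_comm]

theorem bf_smul (a : Co0) (u w : leechLattice) : bf (a • u) (a • w) = bf u w := by
  rw [bf, bf, co0_dot]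

/-- a listed vector -/
def ofLst (l : List ℤ) : GolayPt → ℤ := fun p => l.getD (H90.idx p).val 0

theorem vecL_ofLst {l : List ℤ} (h : l.length = 24) : vecL (ofLst l) = l := by
  refine List.ext_getElem (by simp [vecL, h]) fun i h1 h2 => ?_
  simp only [vecL, List.getElem_ofFn, ofLst, H90.idx_pt]
  rw [List.getD_eq_getElem _ _ h2]

theorem dual_ok : ∀ m : Fin 8, (dualT.getD m.val []).length = 24 ∧
    H96.Check.checkB (ofLst (dualT.getD m.val [])) = true ∧
    twL (dualT.getD m.val []) = dualT.getD m.val [] := by decide +kernel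

theorem base_ok : ∀ m : Fin 8, (baseT.getD m.val []).length = 24 ∧
    H96.Check.checkB (ofLst (baseT.getD m.val [])) = true ∧
    twL (baseT.getD m.val []) = baseT.getD m.val [] := by decide +kernel

/-- the vectors giving the coordinates -/
def dVec (m : Fin 8) : leechLattice := ⟨_, H96.Check.checkB_spec (dual_ok m).2.1⟩

/-- the basis of the fixed classes -/
def eVec (m : Fin 8) : leechLattice := ⟨_, H96.Check.checkB_spec (base_ok m).2.1⟩

theorem vecL_dVec (m : Fin 8) : vecL (dVec m : GolayPt → ℤ) = dualT.getD m.val [] :=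
  vecL_ofLst (dual_ok m).1

theorem vecL_eVec (m : Fin 8) : vecL (eVec m : GolayPt → ℤ) = baseT.getD m.val [] :=
  vecL_ofLst (base_ok m).1

theorem g5_list (u : leechLattice) :
    vecL ((g5 • u : leechLattice) : GolayPt → ℤ) = twL (vecL (u : GolayPt → ℤ)) := vecL_twist u

theorem g5_dVec (m : Fin 8) : g5 • dVec m = dVec m :=
  eq_of_vecL (by rw [g5_list, vecL_dVec]; exact (dual_ok m).2.2)

theorem g5_eVec (m : Fin 8) : g5 • eVec m = eVec m :=
  eq_of_vecL (by rw [g5_list, vecL_eVec]; exact (base_ok m).2.2)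

/-- the coordinates -/
def psi : leechLattice →+ V :=
  AddMonoidHom.mk' (fun v m => bf v (dVec m)) fun a b => funext fun m => bf_add_left a b _

/-- the coordinates from a list -/
def psiL (l : List ℤ) : V := fun m => ((dotL l (dualT.getD m.val []) / 8 : ℤ) : ZMod 2)

theorem psi_list (v : leechLattice) : psi v = psiL (vecL (v : GolayPt → ℤ)) := funext fun m => by
  show bf v (dVec m) = _
  rw [bf, ldot_vecL, vecL_dVec]; rfl

theorem psi_congr {u w : leechLattice} (h : cls u = cls w) : psi u = psi w :=
  funext fun _ => bf_congr_left h _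

theorem psi_base : ∀ m : Fin 8, psiL (baseT.getD m.val []) = Pi.single m 1 := by decide +kernel

/-- a vector with given coordinates -/
def comb (c : V) : leechLattice := ∑ m, (c m).val • eVec m

theorem psi_eVec (m : Fin 8) : psi (eVec m) = Pi.single m 1 := by
  rw [psi_list, vecL_eVec, psi_base]

theorem psi_comb (c : V) : psi (comb c) = c := by
  funext k
  rw [comb, map_sum, Finset.sum_apply]
  simp only [map_nsmul, Pi.smul_apply, psi_eVec, Pi.single_apply]
  rw [Finset.sum_eq_single k (fun b _ hb => by rw [if_neg (Ne.symm hb), smul_zero])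
    (by simp), if_pos rfl, nsmul_one]
  exact ZMod.natCast_zmod_val _

/-- a class fixed by the element -/
def FixV (v : leechLattice) : Prop := cls (g5 • v) = cls v

theorem fixV_iff {v : leechLattice} : FixV v ↔ cls v ∈ H12.Monster.fixCls g5 := by
  constructor
  · exact fun h => ⟨v, h, rfl⟩
  · rintro ⟨w, hw, e⟩
    exact ((cls_smul_congr g5 e).symm.trans hw).trans e

theorem fixV_of_fix {v : leechLattice} (h : g5 • v = v) : FixV v := by rw [FixV, h]

theorem FixV.add {v w : leechLattice} (hv : FixV v) (hw : FixV w) : FixV (v + w) := by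
  rw [FixV, co0_add, cls_add, cls_add, hv, hw]

theorem g5_comb (c : V) : g5 • comb c = comb c := by
  rw [comb]
  have key : ∀ (S : Finset (Fin 8)), g5 • (∑ m ∈ S, (c m).val • eVec m) = ∑ m ∈ S, (c m).val • eVec m := by
    intro S
    let f : leechLattice →+ leechLattice := AddMonoidHom.mk' (fun u => g5 • u) (co0_add g5)
    show f _ = _
    rw [map_sum]
    refine sum_congr rfl fun m _ => ?_
    rw [map_nsmul]
    show (c m).val • (g5 • eVec m) = _
    rw [g5_eVec]
  exact key univ

/-! ### the fixed sublattice -/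

/-- the orbit of a position -/
def orbOf (i : Fin 24) : Fin 8 :=
  ([1, 4, 4, 2, 4, 5, 4, 5, 6, 6, 5, 7, 6, 6, 7, 3, 6, 7, 4, 7, 5, 5, 7, 0] : List (Fin 8)).getD i.val 0

/-- a point of the orbit -/
def repOf (j : Fin 8) : Fin 24 := ([23, 0, 3, 15, 1, 5, 8, 11] : List (Fin 24)).getD j.val 0

theorem orb_cases : ∀ i : Fin 24, ∃ k : Fin 5, itF (repOf (orbOf i)).val k.val = i.val := by
  decide +kernel

theorem orb_rep : ∀ j : Fin 8, orbOf (repOf j) = j := by decide +kernel

theorem inv_of_fix {w : leechLattice} (hw : g5 • w = w) (k : ℕ) (p : GolayPt) :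
    (w : GolayPt → ℤ) ((twStab ^ k).1.1 p) = (w : GolayPt → ℤ) p := by
  induction k generalizing p with
  | zero => rfl
  | succ k ih =>
    rw [pow_succ]
    show (w : GolayPt → ℤ) ((twStab ^ k).1.1 (twStab.1.1 p)) = _
    rw [ih]
    have h := congrArg (fun v : leechLattice => (v : GolayPt → ℤ) (twStab.1.1 p)) hw
    simp only [g5, permHom_apply, Equiv.symm_apply_apply] at h
    exact h.symm

theorem value_of_fix {w : leechLattice} (hw : g5 • w = w) (i : Fin 24) :
    (w : GolayPt → ℤ) (H90.pt i) = (w : GolayPt → ℤ) (H90.pt (repOf (orbOf i))) := by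
  obtain ⟨k, hk⟩ := orb_cases i
  rw [← inv_of_fix hw k.val (H90.pt (repOf (orbOf i)))]
  refine congrArg _ (H90.idx_injective (Fin.ext ?_))
  rw [twist_pow_idx, H90.idx_pt, H90.idx_pt, hk]

theorem sum_orb (f : Fin 8 → ℤ) :
    ∑ i : Fin 24, f (orbOf i) = f 0 + f 1 + f 2 + f 3 + 5 * (f 4 + f 5 + f 6 + f 7) := by
  simp [Fin.sum_univ_succ, orbOf]
  ring

/-- the vectors four times two orbits -/
def qL (k : Fin 8) : List ℤ := List.ofFn fun i : Fin 24 =>
  4 * ((if orbOf i = k then 1 else 0) + (if orbOf i = 0 then 1 else 0))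

theorem qL_at (k : Fin 8) (p : GolayPt) : ofLst (qL k) p =
    4 * ((if orbOf (H90.idx p) = k then 1 else 0) + (if orbOf (H90.idx p) = 0 then 1 else 0)) := by
  unfold ofLst qL
  rw [List.getD_eq_getElem _ _ (by simp [(H90.idx p).isLt]), List.getElem_ofFn]

/-- twice a fixed word -/
def wordL2 (n : ℕ) : List ℤ := List.ofFn fun i : Fin 24 =>
  if (H90.encode n).testBit i.val then 2 else 0

/-- the odd fixed vector -/
def oddL : List ℤ := List.ofFn fun i : Fin 24 => if i.val = 23 then -3 else 1

/-- generators of the fixed sublattice -/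
def genList : List (List ℤ) := oddL :: (signT.map wordL2 ++ (List.finRange 8).map qL)

/-- the coordinates in the dual basis -/
def coefOf (l : List ℤ) (m : Fin 8) : ℤ := (dotL l (baseT.getD m.val []) / 8) % 2

/-- half the difference with the combination -/
def halfDiff (l : List ℤ) (p : GolayPt) : ℤ :=
  (ofLst l p - ∑ m : Fin 8, coefOf l m * ofLst (dualT.getD m.val []) p) / 2

theorem gen_ok : ∀ l ∈ genList, l.length = 24 ∧ H96.Check.checkB (ofLst l) = true ∧
    H96.Check.checkB (halfDiff l) = true ∧
    ∀ i : Fin 24, 2 ∣ ofLst l (H90.pt i) -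
      ∑ m : Fin 8, coefOf l m * ofLst (dualT.getD m.val []) (H90.pt i) := by decide +kernel

/-- a generator as a lattice vector -/
def genVec (l : List ℤ) (h : l ∈ genList) : leechLattice :=
  ⟨_, H96.Check.checkB_spec (gen_ok l h).2.1⟩

theorem bf_gen {x : leechLattice} (hx : psi x = 0) {l : List ℤ} (h : l ∈ genList) :
    bf x (genVec l h) = 0 := by
  obtain ⟨hlen, hmem, hhalf, hev⟩ := gen_ok l h
  let z : leechLattice := ⟨_, H96.Check.checkB_spec hhalf⟩
  have e : genVec l h = (∑ m, coefOf l m • dVec m) + (z + z) := by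
    refine Subtype.ext (funext fun p => ?_)
    have hd := hev (H90.idx p)
    rw [H90.pt_idx] at hd
    simp only [genVec, AddSubgroup.coe_add, AddSubmonoidClass.coe_finsetSum, AddSubgroup.coe_zsmul,
      Pi.add_apply, Finset.sum_apply, Pi.smul_apply, smul_eq_mul]
    show ofLst l p = ∑ m, coefOf l m * ofLst (dualT.getD m.val []) p + (halfDiff l p + halfDiff l p)
    rw [halfDiff]
    omega
  rw [e, bf_add_right, bf_add_right, zmod2_add_self, add_zero]
  show bfR x _ = 0
  rw [map_sum]
  refine sum_eq_zero fun m _ => ?_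
  rw [map_zsmul, show bfR x (dVec m) = psi x m from rfl, hx, Pi.zero_apply, smul_zero]

theorem fixed_words5 : (List.range 4096).all (fun n => signT.contains n ||
    (List.range 24).any fun i => (H90.encode n).testBit i != (H90.encode n).testBit (itF i 1)) = true := by
  decide +kernel

theorem fixed_word {a : GolayPt → ZMod 2} (ha : a ∈ golayCode)
    (hinv : ∀ p, a (cubeTwist p) = a p) : ∃ n ∈ signT, a = H90.wordOf (H90.encode n) := by
  obtain ⟨n, hn, rfl⟩ := H90.mem_golayCode_iff.mp ha
  have h := List.all_eq_true.mp fixed_words5 n (List.mem_range.mpr hn)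
  simp only [Bool.or_eq_true, List.any_eq_true, List.mem_range, bne_iff_ne,
    List.contains_iff_mem] at h
  rcases h with h | ⟨i, hi, h⟩
  · exact ⟨n, h, rfl⟩
  · exfalso
    refine h ?_
    have e := hinv (H90.pt ⟨i, hi⟩)
    have hidx : (H90.idx (cubeTwist (H90.pt ⟨i, hi⟩))).val = itF i 1 := by
      rw [H90.repr_cubeTwist.apply, H90.idx_pt]; rfl
    simp only [H90.wordOf, hidx, H90.idx_pt] at e
    cases hA : (H90.encode n).testBit i <;> cases hB : (H90.encode n).testBit (itF i 1) <;>
      simp_all

theorem bf_fixed {x w : leechLattice} (hx : psi x = 0) (hw : g5 • w = w) : bf x w = 0 := by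
  obtain ⟨m, hm, a, ha, z, hz, -⟩ := exists_form w.2
  have hv2 : ∀ t : ZMod 2, t.val < 2 := fun t => t.val_lt
  have hinv : ∀ p, a (cubeTwist p) = a p := fun p => by
    have h1 : (w : GolayPt → ℤ) (cubeTwist p) = (w : GolayPt → ℤ) p := by
      have := inv_of_fix hw 1 p
      rwa [pow_one] at this
    rw [hz, hz] at h1
    have := hv2 (a (cubeTwist p))
    have := hv2 (a p)
    exact ZMod.val_injective 2 (by omega)
  obtain ⟨n, hn, rfl⟩ := fixed_word ha hinv
  have ho : oddL ∈ genList := List.mem_cons_self ..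
  have hwn : wordL2 n ∈ genList :=
    List.mem_cons_of_mem _ (List.mem_append_left _ (List.mem_map_of_mem hn))
  have hq : ∀ k, qL k ∈ genList := fun k =>
    List.mem_cons_of_mem _ (List.mem_append_right _ (List.mem_map_of_mem (List.mem_finRange k)))
  set r : leechLattice := w - m • genVec _ ho - genVec _ hwn with hr
  have hcoord : ∀ p, (r : GolayPt → ℤ) p = 4 * (z p + (if (H90.idx p).val = 23 then m else 0)) := by
    intro p
    simp only [hr, genVec, AddSubgroup.coe_sub, AddSubgroup.coe_zsmul, Pi.sub_apply, Pi.smul_apply,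
      smul_eq_mul]
    rw [hz p]
    simp only [ofLst, oddL, wordL2, List.getD_eq_getElem?_getD, List.getElem?_ofFn, Fin.is_lt,
      dite_true, Option.getD_some, H90.wordOf]
    rcases Bool.eq_false_or_eq_true ((H90.encode n).testBit (H90.idx p).val) with hb | hb <;>
      simp only [hb, Bool.false_eq_true, if_false, if_true, ZMod.val_one, ZMod.val_zero] <;>
      by_cases h23 : (H90.idx p).val = 23 <;> simp [h23] <;> ring
  have hrfix : g5 • r = r := by
    refine eq_of_vecL ?_
    have hfo : g5 • genVec _ ho = genVec _ ho := eq_of_vecL (by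
      rw [g5_list]; show twL (vecL (ofLst oddL)) = vecL (ofLst oddL); decide +kernel)
    have hfw : g5 • genVec _ hwn = genVec _ hwn := eq_of_vecL (by
      rw [g5_list]
      have : ∀ n ∈ signT, twL (vecL (ofLst (wordL2 n))) = vecL (ofLst (wordL2 n)) := by decide +kernel
      exact this n hn)
    let f : leechLattice →+ leechLattice := AddMonoidHom.mk' (fun u => g5 • u) (co0_add g5)
    have : f r = r := by
      rw [hr, map_sub, map_sub, map_zsmul]
      show g5 • w - m • (g5 • genVec _ ho) - g5 • genVec _ hwn = _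
      rw [hw, hfo, hfw]
    exact congrArg (fun u : leechLattice => vecL (u : GolayPt → ℤ)) this
  set y : Fin 8 → ℤ := fun j =>
    z (H90.pt (repOf j)) + (if (H90.idx (H90.pt (repOf j))).val = 23 then m else 0) with hy
  have hval : ∀ i, (r : GolayPt → ℤ) (H90.pt i) = 4 * y (orbOf i) := fun i => by
    rw [value_of_fix hrfix, hcoord]
  obtain ⟨c, hc⟩ : (2 : ℤ) ∣ y 0 - (y 1 + y 2 + y 3 + y 4 + y 5 + y 6 + y 7) := by
    obtain ⟨m', hm', a', -, z', hz', hs⟩ := exists_form r.2
    have h0 := hz' (H90.pt 0)
    rw [hval] at h0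
    have hsum : ∑ p, (r : GolayPt → ℤ) p = ∑ i : Fin 24, 4 * y (orbOf i) := by
      rw [← Equiv.sum_comp H90.ptEquiv]
      exact sum_congr rfl fun i _ => hval i
    rw [hsum, sum_orb (fun j => 4 * y j)] at hs
    have := hv2 (a' (H90.pt 0))
    omega
  let coef : Fin 8 → ℤ := fun k => if k = 0 then c else y k
  have e : w = m • genVec _ ho + genVec _ hwn + ∑ k, coef k • genVec _ (hq k) := by
    rw [← sub_eq_iff_eq_add', ← sub_sub, ← hr]
    refine Subtype.ext (funext fun p => ?_)
    have h1 := hval (H90.idx p)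
    rw [H90.pt_idx] at h1
    rw [h1]
    simp only [genVec, AddSubmonoidClass.coe_finsetSum, AddSubgroup.coe_zsmul, Finset.sum_apply,
      Pi.smul_apply, smul_eq_mul, qL_at]
    generalize orbOf (H90.idx p) = j
    simp only [coef, Fin.sum_univ_eight]
    fin_cases j <;> simp <;> omega
  rw [e, bf_add_right, bf_add_right]
  show bfR x _ + bfR x _ + bfR x _ = 0
  rw [map_zsmul, map_sum]
  show m • bf x _ + bf x _ + _ = 0
  rw [bf_gen hx ho, bf_gen hx hwn, smul_zero, zero_add, zero_add]
  refine sum_eq_zero fun k _ => ?_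
  rw [map_zsmul]
  show coef k • bf x _ = 0
  rw [bf_gen hx (hq k), smul_zero]

theorem g5_five : g5 ^ 5 = 1 := by
  rw [g5, ← map_pow, show (twStab.1 : M24) ^ 5 = 1 from congrArg Subtype.val twStab_five, map_one]

variable (hnd : ∀ v : leechLattice, (∀ u, bf v u = 0) → cls v = 0)

include hnd in
/-- a fixed class with zero coordinates is zero -/
theorem cls_eq_zero_of_psi {x : leechLattice} (hfix : FixV x) (hx : psi x = 0) : cls x = 0 := by
  refine hnd x fun u => ?_
  have h1 : ∀ i : ℕ, bf x (g5 ^ i • u) = bf x u := by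
    intro i
    induction i with
    | zero => rw [pow_zero, one_smul]
    | succ i ih =>
      rw [pow_succ', mul_smul, ← bf_congr_left hfix, bf_smul, ih]
  set w := u + g5 • u + g5 ^ 2 • u + g5 ^ 3 • u + g5 ^ 4 • u with hw
  have hwfix : g5 • w = w := by
    rw [hw, co0_add, co0_add, co0_add, co0_add, ← mul_smul, ← mul_smul, ← mul_smul, ← mul_smul,
      ← pow_succ', ← pow_succ', ← pow_succ', ← sq, g5_five, one_smul]
    abel
  have h := bf_fixed hx hwfix
  rw [hw, bf_add_right, bf_add_right, bf_add_right, bf_add_right, h1 2, h1 3, h1 4] at h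
  have e1 := h1 1
  rw [pow_one] at e1
  rw [e1, zmod2_add_self, zero_add, zmod2_add_self, zero_add] at h
  exact h

include hnd in
/-- the coordinates determine a fixed class -/
theorem cls_of_psi {v w : leechLattice} (hv : FixV v) (hw : FixV w) (h : psi v = psi w) :
    cls v = cls w := by
  have h0 : psi (v + w) = 0 := by
    rw [map_add, h]; funext m; exact zmod2_add_self _
  have := cls_eq_zero_of_psi hnd (hv.add hw) h0
  rw [cls_add] at this
  calc cls v = cls v + (cls w + cls w) := by rw [cls_add_self, add_zero]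
    _ = cls w := by rw [← add_assoc, this, zero_add]

include hnd in
theorem card_fixCls : (H12.Monster.fixCls g5).ncard = 2 ^ (2 * 4) := by
  classical
  have e : H12.Monster.fixCls g5 = (fun c : V => cls (comb c)) '' Set.univ := by
    ext a
    constructor
    · rintro ⟨v, hv, rfl⟩
      refine ⟨psi v, trivial, ?_⟩
      exact cls_of_psi hnd (fixV_of_fix (g5_comb _)) hv (psi_comb _)
    · rintro ⟨c, -, rfl⟩
      exact ⟨comb c, fixV_of_fix (g5_comb c), rfl⟩
  rw [e, Set.ncard_image_of_injective]
  · simp [Set.ncard_univ, Nat.card_eq_fintype_card]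
  · intro a b h
    rw [← psi_comb a, ← psi_comb b]
    exact psi_congr h

end H3.Monster5
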