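import Cfsg.Agent.H3.Monster5.Cent

/-!
The centraliser of the element of order five acts on ten subspaces of the fixed classes.
-/

set_option autoImplicit false
set_option maxRecDepth 20000

namespace H3.Monster5

open Cfsg H56M Finset
open H95 hiding cls

/-- the centraliser -/
noncomputable abbrev C5 : Subgroup Co0 := Subgroup.centralizer ({g5} : Set Co0)

theorem C5_comm (a : C5) : (a : Co0) * g5 = g5 * a := Subgroup.mem_centralizer_singleton_iff.mp a.2

theorem fix_smul (a : C5) {v : leechLattice} (hv : g5 • v = v) :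
    g5 • ((a : Co0) • v) = (a : Co0) • v := by
  rw [← mul_smul, ← C5_comm, mul_smul, hv]

/-- the code of coordinates -/
def code (c : V) : ℕ := Nat.ofBits fun m : Fin 8 => decide (c m = 1)

/-- coordinates from a code -/
def bitV (n : ℕ) : V := fun m => if n.testBit m.val then 1 else 0

theorem code_lt (c : V) : code c < 256 := Nat.ofBits_lt_two_pow _

theorem bitV_code (c : V) : bitV (code c) = c := by
  funext m
  rw [bitV, code, Nat.testBit_ofBits_lt _ _ m.isLt, Fin.eta]
  rcases zmod2_cases (c m) with h | h <;> simp [h]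

theorem code_add (x y : V) : code (x + y) = code x ^^^ code y := by
  refine Nat.eq_of_testBit_eq fun i => ?_
  rw [Nat.testBit_xor]
  by_cases hi : i < 8
  · simp only [code, Nat.testBit_ofBits_lt _ _ hi, Pi.add_apply]
    rcases zmod2_cases (x ⟨i, hi⟩) with h | h <;> rcases zmod2_cases (y ⟨i, hi⟩) with h' | h' <;>
      simp [h, h'] <;> decide
  · have hp : ∀ c : V, (code c).testBit i = false := fun c =>
      Nat.testBit_lt_two_pow (lt_of_lt_of_le (code_lt c)
        (Nat.pow_le_pow_right (Nat.succ_pos 1) (by omega : 8 ≤ i)))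
    rw [hp, hp, hp]; rfl

theorem code_zero : code 0 = 0 := by decide +kernel

/-- selected table entries -/
def sel (im : List ℕ) (b m : ℕ) : ℕ := if b.testBit m then im.getD m 0 else 0

/-- transport of a code along a table -/
def trN (im : List ℕ) (b : ℕ) : ℕ :=
  sel im b 0 ^^^ sel im b 1 ^^^ sel im b 2 ^^^ sel im b 3 ^^^ sel im b 4 ^^^ sel im b 5 ^^^
    sel im b 6 ^^^ sel im b 7

theorem code_act {a : Co0} {im : List ℕ}
    (h : ∀ m : Fin 8, code (psi (a • eVec m)) = im.getD m.val 0) (b : ℕ) :
    code (psi (a • comb (bitV b))) = trN im b := by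
  let f : leechLattice →+ leechLattice := AddMonoidHom.mk' (fun u => a • u) (co0_add a)
  have e : psi (a • comb (bitV b)) = ∑ m : Fin 8, (bitV b m).val • psi (a • eVec m) := by
    show psi (f _) = _
    rw [comb, map_sum, map_sum]
    exact sum_congr rfl fun m _ => by rw [map_nsmul, map_nsmul]; rfl
  have hs : ∀ m : Fin 8, code ((bitV b m).val • psi (a • eVec m)) = sel im b m.val := by
    intro m
    simp only [bitV, sel]
    split
    · rw [ZMod.val_one, one_smul, h]
    · rw [ZMod.val_zero, zero_smul, code_zero]
  rw [e, Fin.sum_univ_eight]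
  simp only [code_add, hs]
  rfl

/-- a subspace -/
def blk (i : Fin 10) : List ℕ := blockT.getD i.val []

/-- the subspaces move as prescribed -/
def BMap (a : Co0) (f : Fin 10 → Fin 10) : Prop :=
  ∀ i, ∀ b ∈ blk i, code (psi (a • comb (bitV b))) ∈ blk (f i)

theorem blk_lt : ∀ i : Fin 10, (blk i).all (fun b => decide (b < 256)) = true ∧ (blk i).Nodup ∧
    (blk i).length = 15 := by decide +kernel

theorem blk_sep : ∀ i j : Fin 10, i ≠ j → ((blk i).filter fun b => (blk j).contains b).length < 15 := by
  decide +kernel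

theorem bitV_inj {b c : ℕ} (hb : b < 256) (hc : c < 256) (h : bitV b = bitV c) : b = c := by
  refine Nat.eq_of_testBit_eq fun i => ?_
  by_cases hi : i < 8
  · have := congrFun h ⟨i, hi⟩
    simp only [bitV] at this
    cases h1 : b.testBit i <;> cases h2 : c.testBit i <;> simp_all
  · have hp : (256 : ℕ) ≤ 2 ^ i := Nat.pow_le_pow_right (Nat.succ_pos 1) (by omega : 8 ≤ i)
    rw [Nat.testBit_lt_two_pow (lt_of_lt_of_le hb hp), Nat.testBit_lt_two_pow (lt_of_lt_of_le hc hp)]

section Nondeg

variable (hnd : ∀ v : leechLattice, (∀ u, bf v u = 0) → H56M.cls v = 0)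
include hnd

theorem psi_smul_eq {a : Co0} {v : leechLattice} (hv : FixV v) :
    psi (a • v) = psi (a • comb (psi v)) :=
  psi_congr (cls_smul_congr a (cls_of_psi hnd hv (fixV_of_fix (g5_comb _)) (psi_comb _).symm))

theorem bmap_mul {a b : C5} {f h : Fin 10 → Fin 10} (ha : BMap (a : Co0) f) (hb : BMap (b : Co0) h) :
    BMap ((a * b : C5) : Co0) (f ∘ h) := by
  intro i n hn
  have h1 := ha _ _ (hb i n hn)
  rw [bitV_code, ← psi_smul_eq hnd (fixV_of_fix (fix_smul b (g5_comb _))), ← mul_smul] at h1
  exact h1

theorem act_inj (a : C5) {c d : V} (h : psi ((a : Co0) • comb c) = psi ((a : Co0) • comb d)) :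
    c = d := by
  have h1 := cls_of_psi hnd (fixV_of_fix (fix_smul a (g5_comb c)))
    (fixV_of_fix (fix_smul a (g5_comb d))) h
  have h2 := cls_smul_congr (a : Co0)⁻¹ h1
  rw [inv_smul_smul, inv_smul_smul] at h2
  have h3 := psi_congr h2
  rwa [psi_comb, psi_comb] at h3

theorem bmap_unique {a : C5} {f h : Fin 10 → Fin 10} (hf : BMap (a : Co0) f) (hh : BMap (a : Co0) h) :
    f = h := by
  funext i
  by_contra hne
  obtain ⟨hlt, hnd', hlen⟩ := blk_lt i
  have hsep := blk_sep _ _ hne
  set L := (blk i).map fun b => code (psi ((a : Co0) • comb (bitV b))) with hL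
  have hLn : L.Nodup := by
    refine hnd'.map_on fun x hx y hy e => ?_
    have e' := congrArg bitV e
    rw [bitV_code, bitV_code] at e'
    exact bitV_inj (of_decide_eq_true (List.all_eq_true.mp hlt x hx))
      (of_decide_eq_true (List.all_eq_true.mp hlt y hy)) (act_inj hnd a e')
  have hsub : L ⊆ (blk (f i)).filter fun b => (blk (h i)).contains b := by
    intro c hc
    obtain ⟨b, hb, rfl⟩ := List.mem_map.mp hc
    exact List.mem_filter.mpr ⟨hf i b hb, List.contains_iff_mem.mpr (hh i b hb)⟩
  have hle := (hLn.subperm hsub).length_le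
  rw [hL, List.length_map, hlen] at hle
  omega

omit hnd in
theorem bmap_id_of_trivial {a : Co0}
    (h : ∀ v, H56M.cls (g5 • v) = H56M.cls v → H56M.cls (a • v) = H56M.cls v) : BMap a id := by
  intro i b hb
  rw [psi_congr (h _ (fixV_of_fix (g5_comb _))), psi_comb]
  have : b < 256 := of_decide_eq_true (List.all_eq_true.mp (blk_lt i).1 b hb)
  rw [show code (bitV b) = b from bitV_inj (code_lt _) this (bitV_code _)]
  exact hb

theorem bmap_one : BMap ((1 : C5) : Co0) id := by
  refine bmap_id_of_trivial fun v _ => ?_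
  rw [OneMemClass.coe_one, one_smul]

end Nondeg

/-! ### letters -/

theorem matX_gens : matOK matX = true := by decide +kernel

theorem matX_orth : ∀ a b : GolayPt, ∑ p, entryL matX p a * entryL matX p b = if a = b then 64 else 0 := by
  decide +kernel

/-- the non-monomial element -/
def xMat : MatData := ⟨matX, matX_gens, matX_orth⟩

/-- the letters -/
noncomputable def letter (k : ℕ) : Co0 :=
  if k = 0 then xMat.elt else if k ≤ 60 then H95.permHom (Co2Cent.permN (permT.getD (k - 1) 0))
  else Co2Cent.signW (signT.getD (k - 61) 0)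

/-- their action on lists -/
def letterF (k : ℕ) (l : List ℤ) : List ℤ :=
  if k = 0 then applyL matX l else if k ≤ 60 then Co2Cent.permLW (permT.getD (k - 1) 0) l
  else Co2Cent.signLW (signT.getD (k - 61) 0) l

theorem perm_mem {k : ℕ} (h : k < 60) : permT.getD k 0 ∈ permT := by
  have hl : permT.length = 60 := by decide +kernel
  rw [List.getD_eq_getElem _ _ (by omega)]
  exact List.getElem_mem _

theorem vecL_letter (k : ℕ) (u : leechLattice) :
    vecL ((letter k • u : leechLattice) : GolayPt → ℤ) = letterF k (vecL (u : GolayPt → ℤ)) := by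
  unfold letter letterF
  split
  · exact xMat.vecL_elt u
  · split
    · have hm := perms_ok _ (perm_mem (k := k - 1) (by omega))
      exact Co2Cent.vecL_permN hm.1 hm.2 u
    · exact Co2Cent.vecL_signW _ u

theorem letters_comm : ∀ k : Fin 77, ∀ i : Fin 24,
    letterF k.val (twL (eightL i)) = twL (letterF k.val (eightL i)) := by decide +kernel

theorem letter_mem (k : Fin 77) : letter k.val ∈ C5 := by
  refine Subgroup.mem_centralizer_singleton_iff.mpr (eq_of_eights fun i => ?_)
  rw [mul_smul, mul_smul, vecL_letter, g5_list, g5_list, vecL_letter, vecL_eight]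
  exact letters_comm k i

/-- a letter in the centraliser -/
noncomputable def lett (k : Fin 77) : C5 := ⟨letter k.val, letter_mem k⟩

theorem img_ok : ∀ k : Fin 77, ∀ m : Fin 8,
    code (psiL (letterF k.val (baseT.getD m.val []))) = (imgT.getD k.val []).getD m.val 0 := by
  decide +kernel

/-- the action of a letter on the subspaces -/
def piF (k : ℕ) (i : Fin 10) : Fin 10 :=
  ⟨((piT.getD k []).getD i.val 0) % 10, Nat.mod_lt _ (by norm_num)⟩

theorem pi_ok : ∀ k : Fin 77, ∀ i : Fin 10,
    (blk i).all (fun b => (blk (piF k.val i)).contains (trN (imgT.getD k.val []) b)) = true := by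
  decide +kernel

theorem bmap_letter (k : Fin 77) : BMap (lett k : Co0) (piF k.val) := by
  intro i b hb
  rw [code_act (im := imgT.getD k.val []) (fun m => by
    show code (psi (letter k.val • eVec m)) = _
    rw [psi_list, vecL_letter, vecL_eVec, img_ok])]
  exact List.contains_iff_mem.mp (List.all_eq_true.mp (pi_ok k i) b hb)

/-- the letter with a given number -/
def toK (k : ℕ) : Fin 77 := ⟨k % 77, Nat.mod_lt _ (by norm_num)⟩

/-- the element of a word -/
noncomputable def wordEl (W : List ℕ) : C5 := (W.map fun k => lett (toK k)).prod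

/-- the action of a word on lists -/
def wordF : List ℕ → List ℤ → List ℤ
  | [], l => l
  | k :: W, l => forceL (wordF W l) fun r => letterF (toK k).val r

/-- the action of a word on the subspaces -/
def wordP : List ℕ → Fin 10 → Fin 10
  | [], i => i
  | k :: W, i => piF (toK k).val (wordP W i)

theorem vecL_word : ∀ (W : List ℕ) (u : leechLattice),
    vecL (((wordEl W : Co0) • u : leechLattice) : GolayPt → ℤ) = wordF W (vecL (u : GolayPt → ℤ))
  | [], u => by simp [wordEl, wordF]
  | k :: W, u => by
    rw [wordEl, List.map_cons, List.prod_cons, Subgroup.coe_mul, mul_smul, wordF, forceL_eq]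
    show vecL ((letter (toK k).val • _ : leechLattice) : GolayPt → ℤ) = _
    rw [vecL_letter]
    exact congrArg _ (vecL_word W u)

theorem bmap_word (hnd : ∀ v : leechLattice, (∀ u, bf v u = 0) → H56M.cls v = 0) :
    ∀ W : List ℕ, BMap (wordEl W : Co0) (wordP W)
  | [] => bmap_one hnd
  | k :: W => by
    have h := bmap_mul hnd (bmap_letter (toK k)) (bmap_word hnd W)
    exact h

/-! ### frames -/

/-- the coordinates of the standard frame -/
def e8L : List ℤ := eightL 23

theorem vecL_e8 : vecL ((eight none : leechLattice) : GolayPt → ℤ) = e8L := by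
  rw [← H90.pt23]; exact vecL_eight 23

theorem g5_eight : g5 • eight none = eight none := by
  rw [g5, permHom_eight]
  congr 1

/-- a short fixed vector from its orbit values -/
def shortL (n : ℕ) : List ℤ := List.ofFn fun i : Fin 24 =>
  (((n >>> (5 * (orbOf i).val)) % 32 : ℕ) : ℤ) - 16

/-- the check on one class -/
def witOK (b : ℕ) : Bool :=
  if witK.getD b 0 == 1 then code (psiL (wordF (witW.getD b []) e8L)) == b
  else
    forceL (shortL (witV.getD b 0)) fun l =>
      H96.Check.checkB (ofLst l) && decide (l.length = 24) && (twL l == l) &&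
        decide (dotL l l < 64) && code (psiL l) == b

theorem wit_ok : (List.range 256).all witOK = true := by decide +kernel

theorem decomp (hnd : ∀ v : leechLattice, (∀ u, bf v u = 0) → H56M.cls v = 0) (a : C5) :
    ∃ b, b < 256 ∧ witK.getD b 0 = 1 ∧ code (psi ((a : Co0) • eight none)) = b ∧
      ∃ i : Fin 60, ∃ j : Fin 16,
        a = wordEl (witW.getD b []) * (lett (toK (61 + j.val)) * lett (toK (1 + i.val))) := by
  set b := code (psi ((a : Co0) • eight none)) with hb
  have h := List.all_eq_true.mp wit_ok b (List.mem_range.mpr (code_lt _))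
  have hfa : FixV ((a : Co0) • eight none) := fixV_of_fix (fix_smul a g5_eight)
  rw [witOK] at h
  split at h
  · rename_i hk
    rw [beq_iff_eq] at hk h
    refine ⟨b, code_lt _, hk, rfl, ?_⟩
    set W := witW.getD b [] with hW
    have h1 : H56M.cls (((wordEl W)⁻¹ * a : C5).1 • eight none) = H56M.cls (eight none) := by
      have he : psi ((wordEl W : Co0) • eight none) = psi ((a : Co0) • eight none) := by
        have e := congrArg bitV h
        rw [hb, bitV_code, bitV_code] at e
        rw [psi_list, vecL_word, vecL_e8, e]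
      have h2 := cls_smul_congr (wordEl W : Co0)⁻¹
        (cls_of_psi hnd (fixV_of_fix (fix_smul _ g5_eight)) hfa he)
      rw [inv_smul_smul] at h2
      rw [Subgroup.coe_mul, InvMemClass.coe_inv, mul_smul]
      exact h2.symm
    obtain ⟨p, hp, n, hn, e⟩ := mono_cases h1 (C5_comm _)
    obtain ⟨i, hi, rfl⟩ := List.getElem_of_mem hp
    obtain ⟨j, hj, rfl⟩ := List.getElem_of_mem hn
    have hl : permT.length = 60 ∧ signT.length = 16 := by decide +kernel
    refine ⟨⟨i, by omega⟩, ⟨j, by omega⟩, ?_⟩
    rw [← inv_mul_eq_iff_eq_mul]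
    refine Subtype.ext ?_
    rw [e, Subgroup.coe_mul]
    show _ = letter (toK (61 + j)).val * letter (toK (1 + i)).val
    have h61 : (toK (61 + j)).val = 61 + j := Nat.mod_eq_of_lt (by omega)
    have h1' : (toK (1 + i)).val = 1 + i := Nat.mod_eq_of_lt (by omega)
    rw [h61, h1', letter, letter, if_neg (by omega), if_neg (by omega), if_neg (by omega),
      if_pos (by omega), Nat.add_sub_cancel_left, Nat.add_sub_cancel_left,
      List.getD_eq_getElem _ _ hi, List.getD_eq_getElem _ _ hj]
  · exfalso
    rw [forceL_eq] at h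
    simp only [Bool.and_eq_true, decide_eq_true_eq, beq_iff_eq] at h
    obtain ⟨⟨⟨⟨hm, hlen⟩, htw⟩, hn⟩, hc⟩ := h
    set u : leechLattice := ⟨_, H96.Check.checkB_spec hm⟩ with hu
    have hul : vecL (u : GolayPt → ℤ) = shortL (witV.getD b 0) := vecL_ofLst hlen
    have hfu : FixV u := fixV_of_fix (eq_of_vecL (by rw [g5_list, hul, htw]))
    have he : psi u = psi ((a : Co0) • eight none) := by
      have e := congrArg bitV hc
      rw [hb, bitV_code, bitV_code] at e
      rw [psi_list, hul, e]
    have hnu : ldot u u < 64 := by rw [ldot_vecL, hul]; exact hn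
    have hn8 : ldot ((a : Co0) • eight none) ((a : Co0) • eight none) = 64 := by
      rw [co0_dot, eight_norm]
    rcases eq_or_neg_of_cls hnu.le hn8.le (cls_of_psi hnd hfu hfa he) (Or.inl hnu.ne) with e | e
    · rw [e] at hnu; omega
    · rw [e, leechLike.norm_neg] at hnu; omega

theorem exists_bmap (hnd : ∀ v : leechLattice, (∀ u, bf v u = 0) → H56M.cls v = 0) (a : C5) :
    ∃ f, BMap (a : Co0) f := by
  obtain ⟨b, -, -, -, i, j, rfl⟩ := decomp hnd a
  exact ⟨_, bmap_mul hnd (bmap_word hnd _) (bmap_mul hnd (bmap_letter _) (bmap_letter _))⟩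

end H3.Monster5
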