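import Cfsg.Prelude.Def_MonsterType
import Cfsg.Agent.H3.Monster5.Data

/-!
The wreath product of the alternating group of degree five by a group of order two.
-/

set_option autoImplicit false
set_option maxRecDepth 20000

namespace H3.Monster5

open Cfsg

/-- permutations of the two halves -/
abbrev W10 : Type := Equiv.Perm (Fin 5 ⊕ Fin 5)

/-- a pair of permutations -/
abbrev prP (σ τ : Equiv.Perm (Fin 5)) : W10 := Equiv.Perm.sumCongr σ τ

/-- the exchange of the halves -/
abbrev swP : W10 := Equiv.sumComm (Fin 5) (Fin 5)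

theorem prP_mul (σ τ σ' τ' : Equiv.Perm (Fin 5)) : prP σ τ * prP σ' τ' = prP (σ * σ') (τ * τ') :=
  Equiv.Perm.sumCongr_mul σ τ σ' τ'

theorem prP_inv (σ τ : Equiv.Perm (Fin 5)) : (prP σ τ)⁻¹ = prP σ⁻¹ τ⁻¹ := Equiv.Perm.sumCongr_inv σ τ

theorem prP_swP (σ τ : Equiv.Perm (Fin 5)) : prP σ τ * swP = swP * prP τ σ := by
  ext x; rcases x with x | x <;> rfl

theorem swP_sq : swP * swP = 1 := by ext x; rcases x with x | x <;> rfl

/-- the five-cycle -/
def sA : Equiv.Perm (Fin 5) where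
  toFun i := ([1, 2, 3, 4, 0] : List (Fin 5)).getD i.val 0
  invFun i := ([4, 0, 1, 2, 3] : List (Fin 5)).getD i.val 0
  left_inv := by unfold Function.LeftInverse; decide
  right_inv := by unfold Function.RightInverse Function.LeftInverse; decide

/-- the three-cycle -/
def tA : Equiv.Perm (Fin 5) where
  toFun i := ([1, 2, 0, 3, 4] : List (Fin 5)).getD i.val 0
  invFun i := ([2, 0, 1, 3, 4] : List (Fin 5)).getD i.val 0
  left_inv := by unfold Function.LeftInverse; decide
  right_inv := by unfold Function.RightInverse Function.LeftInverse; decide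

/-- evaluation of a word in the two cycles -/
def evA : List ℕ → Equiv.Perm (Fin 5)
  | [] => 1
  | k :: w => (if k = 0 then sA else tA) * evA w

theorem sign_gens : Equiv.Perm.sign sA = 1 ∧ Equiv.Perm.sign tA = 1 := by decide +kernel

theorem sign_evA : ∀ w : List ℕ, Equiv.Perm.sign (evA w) = 1
  | [] => map_one _
  | k :: w => by
    rw [evA, map_mul, sign_evA w, mul_one]
    split
    · exact sign_gens.1
    · exact sign_gens.2

theorem alt_cover : ∀ σ : Equiv.Perm (Fin 5), Equiv.Perm.sign σ = 1 →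
    altT.any (fun w => decide (∀ i, evA w i = σ i)) = true := by decide +kernel

theorem exists_word {σ : Equiv.Perm (Fin 5)} (h : Equiv.Perm.sign σ = 1) : ∃ w, evA w = σ := by
  have := alt_cover σ h
  simp only [List.any_eq_true, decide_eq_true_eq] at this
  obtain ⟨w, -, hw⟩ := this
  exact ⟨w, Equiv.ext hw⟩

theorem prP_mem {σ τ : Equiv.Perm (Fin 5)} (hσ : Equiv.Perm.sign σ = 1) (hτ : Equiv.Perm.sign τ = 1) :
    prP σ τ ∈ alternatingFiveWreathTwo :=
  Subgroup.subset_closure (Or.inl ⟨⟨σ, Equiv.Perm.mem_alternatingGroup.mpr hσ⟩,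
    ⟨τ, Equiv.Perm.mem_alternatingGroup.mpr hτ⟩, rfl⟩)

theorem swP_mem : swP ∈ alternatingFiveWreathTwo := Subgroup.subset_closure (Or.inr rfl)

/-- the two shapes of elements -/
def Shape (x : W10) : Prop :=
  ∃ σ τ : Equiv.Perm (Fin 5), Equiv.Perm.sign σ = 1 ∧ Equiv.Perm.sign τ = 1 ∧
    (x = prP σ τ ∨ x = swP * prP σ τ)

theorem shape_of_mem {x : W10} (hx : x ∈ alternatingFiveWreathTwo) : Shape x := by
  induction hx using Subgroup.closure_induction with
  | mem y hy =>
    rcases hy with ⟨σ, τ, rfl⟩ | hy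
    · exact ⟨σ, τ, Equiv.Perm.mem_alternatingGroup.mp σ.2, Equiv.Perm.mem_alternatingGroup.mp τ.2,
        Or.inl rfl⟩
    · rw [Set.mem_singleton_iff.mp hy]
      refine ⟨1, 1, map_one _, map_one _, Or.inr ?_⟩
      ext z; rcases z with z | z <;> rfl
  | one =>
    refine ⟨1, 1, map_one _, map_one _, Or.inl ?_⟩
    ext z; rcases z with z | z <;> rfl
  | mul a b _ _ ha hb =>
    obtain ⟨σ, τ, hσ, hτ, ha⟩ := ha
    obtain ⟨σ', τ', hσ', hτ', hb⟩ := hb
    rcases ha with rfl | rfl <;> rcases hb with rfl | rfl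
    · exact ⟨σ * σ', τ * τ', by rw [map_mul, hσ, hσ', one_mul], by rw [map_mul, hτ, hτ', one_mul],
        Or.inl (prP_mul _ _ _ _)⟩
    · exact ⟨τ * σ', σ * τ', by rw [map_mul, hτ, hσ', one_mul], by rw [map_mul, hσ, hτ', one_mul],
        Or.inr (by rw [← mul_assoc, prP_swP, mul_assoc, prP_mul])⟩
    · exact ⟨σ * σ', τ * τ', by rw [map_mul, hσ, hσ', one_mul], by rw [map_mul, hτ, hτ', one_mul],
        Or.inr (by rw [mul_assoc, prP_mul])⟩
    · exact ⟨τ * σ', σ * τ', by rw [map_mul, hτ, hσ', one_mul], by rw [map_mul, hσ, hτ', one_mul],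
        Or.inl (by rw [mul_assoc, ← mul_assoc (prP σ τ), prP_swP, mul_assoc, prP_mul, ← mul_assoc,
          swP_sq, one_mul])⟩
  | inv a _ ha =>
    obtain ⟨σ, τ, hσ, hτ, ha⟩ := ha
    rcases ha with rfl | rfl
    · exact ⟨σ⁻¹, τ⁻¹, by rw [map_inv, hσ, inv_one], by rw [map_inv, hτ, inv_one],
        Or.inl (prP_inv _ _)⟩
    · refine ⟨τ⁻¹, σ⁻¹, by rw [map_inv, hτ, inv_one], by rw [map_inv, hσ, inv_one], Or.inr ?_⟩
      rw [mul_inv_rev, prP_inv, inv_eq_of_mul_eq_one_right swP_sq, prP_swP]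

theorem odd_commutator : ∀ σ : Equiv.Perm (Fin 5), Equiv.Perm.sign σ = 1 → σ ≠ 1 →
    altT.any (fun w => decide ((∃ i, (σ * evA w * σ⁻¹ * (evA w)⁻¹) i ≠ i) ∧
      ∀ i, ((σ * evA w * σ⁻¹ * (evA w)⁻¹) ^ 15) i = i)) = true := by decide +kernel

theorem tA_three : tA ^ 3 = 1 ∧ tA⁻¹ ≠ 1 := by decide +kernel

theorem no_two_of_odd {P : Type*} [Group P] {T : Subgroup P} (hT : IsPGroup 2 T) {c : P} {m : ℕ}
    (hm : Odd m) (hc : c ∈ T) (h : c ^ m = 1) : c = 1 := by
  obtain ⟨k, hk⟩ := hT ⟨c, hc⟩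
  have hk' : c ^ 2 ^ k = 1 := congrArg Subtype.val hk
  have h1 : orderOf c ∣ Nat.gcd m (2 ^ k) :=
    Nat.dvd_gcd (orderOf_dvd_of_pow_eq_one h) (orderOf_dvd_of_pow_eq_one hk')
  rw [(Nat.Coprime.pow_right k (Nat.coprime_two_right.mpr hm)).gcd_eq_one, Nat.dvd_one] at h1
  exact orderOf_eq_one_iff.mp h1

theorem wreath_two_core (T : Subgroup alternatingFiveWreathTwo) (hn : T.Normal) (hT : IsPGroup 2 T) :
    T = ⊥ := by
  rw [Subgroup.eq_bot_iff_forall]
  intro x hx
  by_contra hne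
  have hcomm : ∀ b : alternatingFiveWreathTwo, x * b * x⁻¹ * b⁻¹ ∈ T := fun b => by
    have := mul_mem hx (hn.conj_mem x⁻¹ (inv_mem hx) b)
    simpa [mul_assoc] using this
  obtain ⟨σ, τ, hσ, hτ, hsh⟩ := shape_of_mem x.2
  rcases hsh with e | e
  · have hor : σ ≠ 1 ∨ τ ≠ 1 := by
      by_contra hcon
      simp only [not_or, not_not] at hcon
      refine hne (Subtype.ext ?_)
      rw [e, hcon.1, hcon.2]
      exact Equiv.Perm.sumCongr_one
    rcases hor with h | h
    · have hc := odd_commutator σ hσ h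
      simp only [List.any_eq_true, decide_eq_true_eq] at hc
      obtain ⟨w, -, ⟨i, hi⟩, h15⟩ := hc
      refine hi ?_
      let b : alternatingFiveWreathTwo := ⟨prP (evA w) 1, prP_mem (sign_evA w) (map_one _)⟩
      have hv : ((x * b * x⁻¹ * b⁻¹ : alternatingFiveWreathTwo) : W10)
          = prP (σ * evA w * σ⁻¹ * (evA w)⁻¹) 1 := by
        simp only [Subgroup.coe_mul, InvMemClass.coe_inv, e, b, prP_mul, prP_inv]
        simp
      have h1 := no_two_of_odd hT (m := 15) (by decide) (hcomm b) (Subtype.ext (by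
        rw [SubmonoidClass.coe_pow, hv]
        have e15 : (σ * evA w * σ⁻¹ * (evA w)⁻¹) ^ 15 = 1 := Equiv.ext h15
        have := (Equiv.Perm.sumCongrHom (Fin 5) (Fin 5)).map_pow
          (σ * evA w * σ⁻¹ * (evA w)⁻¹, 1) 15
        rw [Prod.pow_mk, e15, one_pow] at this
        exact this.symm.trans (map_one _)))
      have h2 := congrArg (fun z : alternatingFiveWreathTwo => (z : W10) (Sum.inl i)) h1
      simp only [hv] at h2
      exact Sum.inl_injective h2
    · have hc := odd_commutator τ hτ h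
      simp only [List.any_eq_true, decide_eq_true_eq] at hc
      obtain ⟨w, -, ⟨i, hi⟩, h15⟩ := hc
      refine hi ?_
      let b : alternatingFiveWreathTwo := ⟨prP 1 (evA w), prP_mem (map_one _) (sign_evA w)⟩
      have hv : ((x * b * x⁻¹ * b⁻¹ : alternatingFiveWreathTwo) : W10)
          = prP 1 (τ * evA w * τ⁻¹ * (evA w)⁻¹) := by
        simp only [Subgroup.coe_mul, InvMemClass.coe_inv, e, b, prP_mul, prP_inv]
        simp
      have h1 := no_two_of_odd hT (m := 15) (by decide) (hcomm b) (Subtype.ext (by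
        rw [SubmonoidClass.coe_pow, hv]
        have e15 : (τ * evA w * τ⁻¹ * (evA w)⁻¹) ^ 15 = 1 := Equiv.ext h15
        have := (Equiv.Perm.sumCongrHom (Fin 5) (Fin 5)).map_pow
          (1, τ * evA w * τ⁻¹ * (evA w)⁻¹) 15
        rw [Prod.pow_mk, e15, one_pow] at this
        exact this.symm.trans (map_one _)))
      have h2 := congrArg (fun z : alternatingFiveWreathTwo => (z : W10) (Sum.inr i)) h1
      simp only [hv] at h2
      exact Sum.inr_injective h2
  · let b : alternatingFiveWreathTwo := ⟨prP tA 1, prP_mem sign_gens.2 (map_one _)⟩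
    have hv : ((x * b * x⁻¹ * b⁻¹ : alternatingFiveWreathTwo) : W10)
        = prP tA⁻¹ (σ * tA * σ⁻¹) := by
      simp only [Subgroup.coe_mul, InvMemClass.coe_inv, e, b, mul_inv_rev, prP_inv,
        inv_eq_of_mul_eq_one_right swP_sq]
      rw [show swP * prP σ τ * prP tA 1 * (prP σ⁻¹ τ⁻¹ * swP) * prP tA⁻¹ 1⁻¹
        = swP * (prP σ τ * prP tA 1 * prP σ⁻¹ τ⁻¹) * swP * prP tA⁻¹ 1⁻¹ by group]
      rw [prP_mul, prP_mul, mul_assoc swP _ swP, prP_swP, ← mul_assoc, swP_sq, one_mul, prP_mul]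
      simp
    have h1 := no_two_of_odd hT (m := 3) (by decide) (hcomm b) (Subtype.ext (by
      rw [SubmonoidClass.coe_pow, hv]
      have e3 : (σ * tA * σ⁻¹) ^ 3 = 1 := by rw [conj_pow, tA_three.1]; group
      have e3' : tA⁻¹ ^ 3 = 1 := by rw [inv_pow, tA_three.1, inv_one]
      have := (Equiv.Perm.sumCongrHom (Fin 5) (Fin 5)).map_pow (tA⁻¹, σ * tA * σ⁻¹) 3
      rw [Prod.pow_mk, e3, e3'] at this
      exact this.symm.trans (map_one _)))
    refine tA_three.2 (Equiv.ext fun i => ?_)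
    have h2 := congrArg (fun z : alternatingFiveWreathTwo => (z : W10) (Sum.inl i)) h1
    simp only [hv] at h2
    exact Sum.inl_injective h2

end H3.Monster5
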