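import Cfsg.Agent.H3.Monster5.Group
import Cfsg.Agent.H3.Monster5.Wreath

/-!
The centraliser of the element of order five in `Co0` maps onto `A5 wr 2` with kernel the
element and the centre.
-/

set_option autoImplicit false
set_option maxRecDepth 20000

namespace H3.Monster5

open Cfsg H56M Finset
open H95 hiding cls

variable (hnd : ∀ v : leechLattice, (∀ u, bf v u = 0) → H56M.cls v = 0)

/-- the map on the ten subspaces -/
noncomputable def fOf (a : C5) : Fin 10 → Fin 10 := (exists_bmap hnd a).choose

theorem fOf_spec (a : C5) : BMap (a : Co0) (fOf hnd a) := (exists_bmap hnd a).choose_spec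

theorem fOf_eq {a : C5} {f : Fin 10 → Fin 10} (h : BMap (a : Co0) f) : fOf hnd a = f :=
  bmap_unique hnd (fOf_spec hnd a) h

theorem fOf_mul (a b : C5) : fOf hnd (a * b) = fOf hnd a ∘ fOf hnd b :=
  fOf_eq hnd (bmap_mul hnd (fOf_spec hnd a) (fOf_spec hnd b))

theorem fOf_one : fOf hnd 1 = id := fOf_eq hnd (bmap_one hnd)

/-- the permutation of the ten subspaces -/
noncomputable def permOf (a : C5) : Equiv.Perm (Fin 10) where
  toFun := fOf hnd a
  invFun := fOf hnd a⁻¹
  left_inv := fun i => by
    have := congrFun ((fOf_mul hnd a⁻¹ a).symm.trans (by rw [inv_mul_cancel, fOf_one])) i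
    exact this
  right_inv := fun i => by
    have := congrFun ((fOf_mul hnd a a⁻¹).symm.trans (by rw [mul_inv_cancel, fOf_one])) i
    exact this

/-- the homomorphism on the two halves -/
noncomputable def gam : C5 →* W10 :=
  MonoidHom.mk' (fun a => finSumFinEquiv.symm.permCongr (permOf hnd a)) fun a b => Equiv.ext fun x => by
    simp only [Equiv.Perm.mul_apply, Equiv.permCongr_apply, Equiv.symm_symm,
      Equiv.apply_symm_apply]
    exact congrArg finSumFinEquiv.symm (congrFun (fOf_mul hnd a b) _)

theorem gam_apply (a : C5) (x : Fin 5 ⊕ Fin 5) :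
    gam hnd a x = finSumFinEquiv.symm (fOf hnd a (finSumFinEquiv x)) := rfl

theorem gam_lett (k : Fin 77) (x : Fin 5 ⊕ Fin 5) :
    gam hnd (lett k) x = finSumFinEquiv.symm (piF k.val (finSumFinEquiv x)) := by
  rw [gam_apply, fOf_eq hnd (bmap_letter k)]

/-- how a letter acts on one half -/
def halfB (k : ℕ) (src dst : Fin 5 → Fin 5 ⊕ Fin 5) : Bool :=
  altT.any fun w => decide (∀ i, finSumFinEquiv.symm (piF k (finSumFinEquiv (src i))) = dst (evA w i))

theorem letters_shape : ∀ k : Fin 77,
    (halfB k.val Sum.inl Sum.inl && halfB k.val Sum.inr Sum.inr ||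
      halfB k.val Sum.inl Sum.inr && halfB k.val Sum.inr Sum.inl) = true := by decide +kernel

theorem gam_lett_mem (k : Fin 77) : gam hnd (lett k) ∈ alternatingFiveWreathTwo := by
  have h := letters_shape k
  simp only [halfB, Bool.or_eq_true, Bool.and_eq_true, List.any_eq_true, decide_eq_true_eq] at h
  rcases h with ⟨⟨u, -, hu⟩, ⟨v, -, hv⟩⟩ | ⟨⟨u, -, hu⟩, ⟨v, -, hv⟩⟩
  · have e : gam hnd (lett k) = prP (evA u) (evA v) := Equiv.ext fun x => by
      rw [gam_lett]
      rcases x with i | i
      · exact hu i
      · exact hv i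
    rw [e]
    exact prP_mem (sign_evA u) (sign_evA v)
  · have e : gam hnd (lett k) = swP * prP (evA u) (evA v) := Equiv.ext fun x => by
      rw [gam_lett]
      rcases x with i | i
      · exact hu i
      · exact hv i
    rw [e]
    exact mul_mem swP_mem (prP_mem (sign_evA u) (sign_evA v))

theorem gam_word_mem (W : List ℕ) : gam hnd (wordEl W) ∈ alternatingFiveWreathTwo := by
  induction W with
  | nil => rw [show wordEl [] = 1 from rfl, map_one]; exact one_mem _
  | cons k W ih =>
    rw [show wordEl (k :: W) = lett (toK k) * wordEl W from rfl, map_mul]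
    exact mul_mem (gam_lett_mem hnd _) ih

theorem gam_mem (a : C5) : gam hnd a ∈ alternatingFiveWreathTwo := by
  obtain ⟨b, -, -, -, i, j, rfl⟩ := decomp hnd a
  rw [map_mul, map_mul]
  exact mul_mem (gam_word_mem hnd _) (mul_mem (gam_lett_mem hnd _) (gam_lett_mem hnd _))

/-- the map onto the wreath product -/
noncomputable def beta : C5 →* alternatingFiveWreathTwo := (gam hnd).codRestrict _ (gam_mem hnd)

/-- the five generators of the wreath product -/
def target : Fin 5 → W10
  | 0 => prP sA 1
  | 1 => prP tA 1
  | 2 => prP 1 sA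
  | 3 => prP 1 tA
  | _ => swP

theorem target_ok : ∀ k : Fin 5, ∀ x : Fin 5 ⊕ Fin 5,
    finSumFinEquiv.symm (wordP (targetT.getD k.val ([], [])).2 (finSumFinEquiv x)) = target k x := by
  decide +kernel

theorem target_mem (k : Fin 5) : target k ∈ (gam hnd).range := by
  refine ⟨wordEl (targetT.getD k.val ([], [])).2, Equiv.ext fun x => ?_⟩
  rw [gam_apply, fOf_eq hnd (bmap_word hnd _), target_ok]

theorem beta_surjective : Function.Surjective (beta hnd) := by
  intro x
  suffices (x : W10) ∈ (gam hnd).range by
    obtain ⟨a, ha⟩ := this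
    exact ⟨a, Subtype.ext ha⟩
  obtain ⟨σ, τ, hσ, hτ, hsh⟩ := shape_of_mem x.2
  have hl : ∀ w, prP (evA w) 1 ∈ (gam hnd).range := by
    intro w
    induction w with
    | nil => rw [show prP (evA []) 1 = 1 from Equiv.Perm.sumCongr_one]; exact one_mem _
    | cons k w ih =>
      rw [evA, show prP ((if k = 0 then sA else tA) * evA w) 1
        = prP (if k = 0 then sA else tA) 1 * prP (evA w) 1 by rw [prP_mul, one_mul]]
      refine mul_mem ?_ ih
      split
      · exact target_mem hnd 0
      · exact target_mem hnd 1
  have hr : ∀ w, prP 1 (evA w) ∈ (gam hnd).range := by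
    intro w
    induction w with
    | nil => rw [show prP 1 (evA []) = 1 from Equiv.Perm.sumCongr_one]; exact one_mem _
    | cons k w ih =>
      rw [evA, show prP 1 ((if k = 0 then sA else tA) * evA w)
        = prP 1 (if k = 0 then sA else tA) * prP 1 (evA w) by rw [prP_mul, one_mul]]
      refine mul_mem ?_ ih
      split
      · exact target_mem hnd 2
      · exact target_mem hnd 3
  obtain ⟨u, rfl⟩ := exists_word hσ
  obtain ⟨v, rfl⟩ := exists_word hτ
  have hp : prP (evA u) (evA v) ∈ (gam hnd).range := by
    rw [show prP (evA u) (evA v) = prP (evA u) 1 * prP 1 (evA v) by rw [prP_mul, mul_one, one_mul]]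
    exact mul_mem (hl u) (hr v)
  rcases hsh with e | e <;> rw [e]
  · exact hp
  · exact mul_mem (target_mem hnd 4) hp

/-! ### the kernel -/

theorem piF_inj : ∀ k : Fin 77, ∀ r r' : Fin 10, piF k.val r = piF k.val r' → r = r' := by
  decide +kernel

theorem word_table : ∀ b : Fin 256, witK.getD b.val 0 = 1 → ∀ r : Fin 10,
    (wordP (witW.getD b.val []) r).val = (wPermT.getD b.val []).getD r.val 0 := by decide +kernel

/-- the subspaces through the standard frame -/
def meetB (b : ℕ) : Bool :=
  (List.finRange 10).all fun r => !(blk r).contains 128 || (blk r).contains b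

/-- only trivial products act trivially -/
def kerCheck : Bool :=
  (List.range 256).all fun b => !(witK.getD b 0 == 1 && meetB b) ||
    (List.range 60).all fun i => (List.range 16).all fun j =>
      ((witW.getD b []).isEmpty && decide (i < 5) && decide (j < 2)) ||
        (List.finRange 10).any fun r =>
          (wPermT.getD b []).getD (piF (61 + j) (piF (1 + i) r)).val 0 != r.val

theorem kerCheck_ok : kerCheck = true := by decide +kernel

theorem code_e8 : code (psiL e8L) = 128 := by decide +kernel

theorem powers_code : ∀ i : Fin 5, ∀ m : Fin 24, H90.img (permT.getD i.val 0) m.val = itF m.val i.val := by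
  decide +kernel

theorem signW_zero : Co2Cent.signW 0 = 1 := co0_ext fun v => Subtype.ext (funext fun p => by
  rw [Co2Cent.signW_coord, one_smul]
  simp [show H90.encode 0 = 0 from rfl])

theorem signW_neg : Co2Cent.signW 4095 = negOne := by
  have h : ∀ p : GolayPt, (H90.encode 4095).testBit (H90.idx p).val = true := by decide +kernel
  refine co0_ext fun v => Subtype.ext (funext fun p => ?_)
  rw [Co2Cent.signW_coord, if_pos (h p), negOne_smul]
  rfl

theorem beta_eq_one_iff_id (a : C5) : beta hnd a = 1 ↔ fOf hnd a = id := by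
  constructor
  · intro h
    funext i
    have h1 := congrArg (fun z : alternatingFiveWreathTwo => (z : W10) (finSumFinEquiv.symm i)) h
    simp only [beta] at h1
    change gam hnd a (finSumFinEquiv.symm i) = finSumFinEquiv.symm i at h1
    rw [gam_apply, Equiv.apply_symm_apply] at h1
    exact finSumFinEquiv.symm.injective h1
  · intro h
    refine Subtype.ext (Equiv.ext fun x => ?_)
    show gam hnd a x = x
    rw [gam_apply, h]
    exact Equiv.symm_apply_apply _ _

theorem beta_trivial (a : C5)
    (h : ∀ v, H56M.cls (g5 • v) = H56M.cls v → H56M.cls ((a : Co0) • v) = H56M.cls v) :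
    beta hnd a = 1 :=
  (beta_eq_one_iff_id hnd a).mpr (fOf_eq hnd (bmap_id_of_trivial h))

theorem beta_ker (a : C5) :
    beta hnd a = 1 ↔ ∃ i : ℕ, (a : Co0) = g5 ^ i ∨ (a : Co0) = g5 ^ i * negOne := by
  constructor
  · intro h
    have hid := (beta_eq_one_iff_id hnd a).mp h
    obtain ⟨b, hb, hk, hcode, i, j, rfl⟩ := decomp hnd a
    have hmeet : meetB b = true := by
      rw [meetB, List.all_eq_true]
      intro r _
      rw [Bool.or_eq_true, Bool.not_eq_true', List.contains_iff_mem]
      by_cases hr : 128 ∈ blk r
      · right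
        have h1 := fOf_spec hnd (wordEl (witW.getD b []) * (lett (toK (61 + j.val)) * lett (toK (1 + i.val)))) r 128 hr
        rw [hid] at h1
        have e : bitV 128 = psi (eight none) := by
          rw [psi_list, vecL_e8, ← bitV_code (psiL e8L), code_e8]
        have e2 := psi_smul_eq hnd
          (a := ((wordEl (witW.getD b []) * (lett (toK (61 + j.val)) * lett (toK (1 + i.val))) : C5) : Co0))
          (fixV_of_fix g5_eight)
        rw [e, ← e2, hcode] at h1
        exact h1
      · left
        rw [← Bool.not_eq_true, List.contains_iff_mem]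
        exact hr
    rw [fOf_mul, fOf_mul, fOf_eq hnd (bmap_word hnd _), fOf_eq hnd (bmap_letter _),
      fOf_eq hnd (bmap_letter _)] at hid
    have h61 : (toK (61 + j.val)).val = 61 + j.val := Nat.mod_eq_of_lt (by omega)
    have h1' : (toK (1 + i.val)).val = 1 + i.val := Nat.mod_eq_of_lt (by omega)
    rw [h61, h1'] at hid
    have hc := List.all_eq_true.mp kerCheck_ok b (List.mem_range.mpr hb)
    simp only [Bool.or_eq_true, Bool.not_eq_true', hk, beq_self_eq_true, hmeet, Bool.and_self,
      Bool.true_eq_false, false_or, List.all_eq_true, List.mem_range, List.any_eq_true,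
      Bool.and_eq_true, decide_eq_true_eq, bne_iff_ne, List.isEmpty_iff] at hc
    rcases hc i.val i.isLt j.val j.isLt with ⟨⟨hW, hi⟩, hj⟩ | ⟨r, -, hr⟩
    · refine ⟨i.val, ?_⟩
      have hp : Co2Cent.permN (permT.getD i.val 0) = (twStab ^ i.val).1 := by
        refine Subtype.ext ((Co2Cent.permN_repr (perms_ok _ (perm_mem (by omega))).1).unique ?_)
        intro m
        rw [twist_pow_idx, H90.idx_pt]
        exact (powers_code ⟨i.val, hi⟩ m).symm
      rw [Subgroup.coe_mul, Subgroup.coe_mul, hW, show ((wordEl [] : C5) : Co0) = 1 from rfl, one_mul]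
      have el : ∀ k, ((lett k : C5) : Co0) = letter k.val := fun _ => rfl
      rw [el, el, h61, h1', letter, letter, if_neg (by omega), if_neg (by omega), if_neg (by omega),
        if_pos (by omega), Nat.add_sub_cancel_left, Nat.add_sub_cancel_left, hp]
      have hg : H95.permHom (twStab ^ i.val).1 = g5 ^ i.val := by
        rw [SubmonoidClass.coe_pow, map_pow]; rfl
      rw [hg]
      rcases (show j.val = 0 ∨ j.val = 1 by omega) with e | e <;> rw [e]
      · left
        rw [show signT.getD 0 0 = 0 from rfl, signW_zero, one_mul]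
      · right
        rw [show signT.getD 1 0 = 4095 from rfl, signW_neg, negOne_comm]
    · exfalso
      refine hr ?_
      rw [← word_table ⟨b, hb⟩ hk]
      exact congrArg Fin.val (congrFun hid r)
  · rintro ⟨i, hi⟩
    refine beta_trivial hnd a fun v hv => ?_
    have hpow : ∀ k : ℕ, H56M.cls (g5 ^ k • v) = H56M.cls v := by
      intro k
      induction k with
      | zero => rw [pow_zero, one_smul]
      | succ k ih => rw [pow_succ', mul_smul, cls_smul_congr g5 ih, hv]
    rcases hi with e | e <;> rw [e]
    · exact hpow i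
    · rw [H56M.Data.cls_smul_negOne]
      exact hpow i

end H3.Monster5
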