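import Cfsg.Agent.H3.Monster5.Hom
import Cfsg.Agent.H90.Group

/-!
An element of order five centralising `z` and a conjugate of `z` in `Q` in a group of Monster
type: the centraliser is of Harada-Norton type modulo the element.
-/

set_option autoImplicit false

namespace H3.Monster5

open Cfsg H56M H12.Monster
open H95 hiding cls

variable {G : Type*} [Group G] [Finite G] {z : G} {Q : Subgroup (CZ z)} [Q.Normal]

theorem setup_pow {D : Data z Q} {s y : G} {g : Co0} {p : ℕ} (S : Setup D s y g p) {k : ℕ}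
    (hk : Nat.Coprime p k) : Setup D s (y ^ k) (g ^ k) p := by
  refine ⟨S.prime, S.odd, ?_, ?_, ?_, ((show Commute y s from S.comm).pow_left k).eq, S.rep, S.conj, S.ne⟩
  · rw [Nat.Coprime.orderOf_pow (by rw [S.ord]; exact hk), S.ord]
  · clear hk
    induction k with
    | zero => simpa using D.lift_one_iff.mpr (one_mem _)
    | succ n ih => rw [pow_succ, pow_succ]; exact ih.mul S.lift
  · rw [← pow_mul, mul_comm, pow_mul, S.gord, one_pow]

theorem orderOf_twist : orderOf (twStab.1 : M24) = 5 := by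
  exact (Subgroup.orderOf_coe twStab).trans order_twStab

theorem exists_five {D : Data z Q} {s : G} (hrep : D.Rep s (eight none)) (hs : IsConj z s)
    (hs1 : s ≠ z) : ∃ y : G, y ∈ Subgroup.centralizer ({z, s} : Set G) ∧ orderOf y = 5 := by
  have hv : H56M.cls (eight none) ≠ 0 := fun h => by
    obtain ⟨c, hc⟩ := isConj_iff.mp hs
    rcases D.rep_zero_cases hrep h with e | e
    · exact D.t_ne_one hc e
    · exact hs1 e
  obtain ⟨h, hl, hhs⟩ := D.exists_lift_fix hrep hv (frame_permHom twStab.1)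
  have hlp : ∀ i : ℕ, D.Lift (h ^ i) (H95.permHom twStab.1 ^ i) := fun i => by
    induction i with
    | zero => simpa using D.lift_one_iff.mpr (one_mem _)
    | succ i ih => rw [pow_succ, pow_succ]; exact ih.mul hl
  have h1 := hlp (orderOf h)
  rw [pow_orderOf_eq_one, ← map_pow] at h1
  have h2 : H56M.permHom (twStab.1 ^ orderOf h) = 1 := by
    show (QuotientGroup.mk (H95.permHom (twStab.1 ^ orderOf h)) : Spor.Co1) = 1
    rcases (D.lift_one_iff.mpr (one_mem _)).unique h1 with e | e <;> rw [e]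
    · rfl
    · exact (QuotientGroup.eq_one_iff _).mpr (by simpa using negOne_mem_center)
  have h5 : 5 ∣ orderOf h := by
    rw [← orderOf_twist]
    exact orderOf_dvd_of_pow_eq_one (H56M.permHom_injective (h2.trans (map_one _).symm))
  refine ⟨h ^ (orderOf h / 5), pow_mem (mem_L.mpr ⟨mem_CZ.mp hl.1, hhs⟩) _, ?_⟩
  exact orderOf_pow_orderOf_div (orderOf_pos h).ne' h5

theorem harada_norton {D : Data z Q} {s y : G} (S : Setup D s y (H95.permHom twStab.1) 5)
    [(YN y).Normal] : IsOfHaradaNortonType ((CY y) ⧸ YN y) := by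
  have hnd : ∀ v : leechLattice, (∀ u, bf v u = 0) → H56M.cls v = 0 := fun v h => D.nondeg h
  obtain ⟨Z, R, hR, hset, ⟨e⟩, -, -⟩ := S.setting (w := 4) (by norm_num) (card_fixCls hnd)
    (beta hnd) (beta_surjective hnd) (beta_ker hnd) (fun a ha => beta_trivial hnd a ha)
    wreath_two_core
  exact ⟨Z, R, hR, hset, ⟨e⟩⟩

theorem sylow_twist {σ : M24} (hσ : orderOf σ = 5) :
    ∃ (j : ℕ) (τ : M24), Nat.Coprime 5 j ∧ τ * twStab.1 * τ⁻¹ = σ ^ j := by
  have := Fact.mk (show Nat.Prime 5 by norm_num)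
  have hc : ∀ g : M24, orderOf g = 5 → ∃ P : Sylow 5 M24, (P : Subgroup M24) = Subgroup.zpowers g := by
    intro g hg
    refine ⟨Sylow.ofCard (Subgroup.zpowers g) ?_, rfl⟩
    rw [Nat.card_zpowers, hg, H90.natCard_M24, show 244823040 = 5 * 48964608 by norm_num,
      Nat.factorization_mul (by norm_num) (by norm_num), Finsupp.add_apply,
      Nat.Prime.factorization_self (by norm_num : Nat.Prime 5),
      Nat.factorization_eq_zero_of_not_dvd (by norm_num : ¬ 5 ∣ 48964608), pow_one]
  obtain ⟨P, hP⟩ := hc _ orderOf_twist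
  obtain ⟨P', hP'⟩ := hc σ hσ
  obtain ⟨τ, hτ⟩ := MulAction.exists_smul_eq M24 P P'
  have hm : τ * twStab.1 * τ⁻¹ ∈ Subgroup.zpowers σ := by
    rw [← hP', ← hτ, Sylow.coe_subgroup_smul]
    exact ⟨twStab.1, by rw [SetLike.mem_coe, hP]; exact Subgroup.mem_zpowers _, rfl⟩
  obtain ⟨j, hj, hje⟩ := Finset.mem_image.mp (mem_zpowers_iff_mem_range_orderOf.mp hm)
  rw [Finset.mem_range, hσ] at hj
  refine ⟨j, τ, ?_, hje.symm⟩
  refine (Nat.Prime.coprime_iff_not_dvd (by norm_num)).mpr fun hd => ?_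
  have h0 : j = 0 := by omega
  rw [h0, pow_zero] at hje
  have h1 : (twStab.1 : M24) = 1 := mul_eq_left.mp (mul_inv_eq_one.mp hje.symm)
  have := orderOf_twist
  rw [h1, orderOf_one] at this
  norm_num at this

end H3.Monster5
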